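import Groth.Prelude.Def_SymProd
import Mathlib.AlgebraicGeometry.AffineScheme
import Mathlib.RingTheory.Ideal.Operations

/-!
# Affine charts of fibre powers
-/

set_option autoImplicit false

universe u

open CategoryTheory CategoryTheory.Limits AlgebraicGeometry

namespace Groth.L16.SymProd

/-- Finitely many points of an affine open which lie in an open set lie in an affine open inside both. -/
theorem exists_affine_le {X : Scheme.{u}} {U : X.Opens} (hU : IsAffineOpen U) (O : X.Opens) (T : Finset X)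
    (hTU : ∀ x ∈ T, x ∈ U) (hTO : ∀ x ∈ T, x ∈ O) :
    ∃ U' : X.Opens, IsAffineOpen U' ∧ U' ≤ U ∧ U' ≤ O ∧ ∀ x ∈ T, x ∈ U' := by
  classical
  let A := Γ(X, U)
  let O' : Set (PrimeSpectrum A) := hU.fromSpec.base ⁻¹' (O : Set X)
  have hO' : IsOpen O' := O.2.preimage hU.fromSpec.base.hom.continuous
  obtain ⟨s, hs⟩ := (PrimeSpectrum.isOpen_iff _).1 hO'
  let pr : {x : X // x ∈ T} → PrimeSpectrum A := fun x => hU.primeIdealOf ⟨x.1, hTU _ x.2⟩
  have hpr : ∀ x, hU.fromSpec.base (pr x) = x.1 := fun x => hU.fromSpec_primeIdealOf _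
  have hmem : ∀ x, ¬ Ideal.span s ≤ (pr x).asIdeal := by
    intro x hx
    have h1 : pr x ∈ O' := by show hU.fromSpec.base (pr x) ∈ O; rw [hpr]; exact hTO _ x.2
    have h2 : pr x ∈ PrimeSpectrum.zeroLocus s := by
      rw [PrimeSpectrum.mem_zeroLocus]
      exact Ideal.span_le.1 hx
    rw [← hs] at h2
    exact h2 h1
  obtain ⟨h, hh, hh'⟩ : ∃ h ∈ Ideal.span s, ∀ x, h ∉ (pr x).asIdeal := by
    by_contra hcon
    push Not at hcon
    rcases isEmpty_or_nonempty {x : X // x ∈ T} with he | he
    · obtain ⟨x, -⟩ := hcon 0 (Ideal.zero_mem _); exact he.false x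
    · obtain ⟨x₀⟩ := he
      have hsub : ((Ideal.span s : Ideal A) : Set A) ⊆
          ⋃ x ∈ (↑(Finset.univ : Finset {x : X // x ∈ T}) : Set _), ((pr x).asIdeal : Set A) := by
        intro g hg
        obtain ⟨x, hx⟩ := hcon g hg
        exact Set.mem_biUnion (by simp) hx
      obtain ⟨x, -, hle⟩ :=
        (Ideal.subset_union_prime (f := fun x => (pr x).asIdeal) x₀ x₀ fun x _ _ _ => (pr x).isPrime).1 hsub
      exact hmem x hle
  refine ⟨X.basicOpen h, hU.basicOpen h, X.basicOpen_le h, ?_, fun x hx => ?_⟩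
  · intro y hy
    rw [← hU.fromSpec_image_basicOpen h] at hy
    obtain ⟨p, hp, rfl⟩ := hy
    by_contra hpO
    have h1 : p ∈ PrimeSpectrum.zeroLocus s := by rw [← hs]; exact hpO
    exact hp (Ideal.span_le.2 ((PrimeSpectrum.mem_zeroLocus _ _).1 h1) hh)
  · rw [← hU.fromSpec_image_basicOpen h]
    exact ⟨pr ⟨x, hx⟩, hh' ⟨x, hx⟩, hpr ⟨x, hx⟩⟩

variable {X S : Scheme.{u}} (f : X ⟶ S) (d : ℕ)

/-- The open subset of the fibre power cut out by an open of the source and one of the base. -/
noncomputable def box (U : X.Opens) (V : S.Opens) : (SymProd.fibPow f d).Opens :=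
  (WidePullback.base (fun _ : Fin d => f)) ⁻¹ᵁ V ⊓
    Finset.univ.inf fun i : Fin d => (WidePullback.π (fun _ : Fin d => f) i) ⁻¹ᵁ U

theorem mem_box {U : X.Opens} {V : S.Opens} {p : ↥(SymProd.fibPow f d)} :
    p ∈ box f d U V ↔ (WidePullback.base (fun _ : Fin d => f)).base p ∈ V ∧
      ∀ i, (WidePullback.π (fun _ : Fin d => f) i).base p ∈ U := by
  rw [box, TopologicalSpace.Opens.mem_inf, Scheme.Hom.mem_preimage]
  refine and_congr Iff.rfl ?_
  rw [← SetLike.mem_coe, TopologicalSpace.Opens.coe_finset_inf]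
  simp

theorem coe_box_of_pos (hd : 0 < d) {U : X.Opens} {V : S.Opens} (hUV : U ≤ f ⁻¹ᵁ V) :
    (box f d U V : Set ↥(SymProd.fibPow f d)) =
      ⋂ i : Fin d, (WidePullback.π (fun _ : Fin d => f) i).base ⁻¹' (U : Set X) := by
  ext p
  rw [SetLike.mem_coe, mem_box]
  simp only [Set.mem_iInter, Set.mem_preimage, SetLike.mem_coe]
  refine ⟨fun h => h.2, fun h => ⟨?_, h⟩⟩
  have h1 := hUV (h ⟨0, hd⟩)
  rw [Scheme.Hom.mem_preimage, ← Scheme.Hom.comp_apply, WidePullback.π_arrow] at h1
  exact h1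

theorem preimage_box (U : X.Opens) (V : S.Opens) (σ : Equiv.Perm (Fin d)) :
    (SymProd.permHom f d σ) ⁻¹ᵁ box f d U V = box f d U V := by
  ext p
  simp only [SetLike.mem_coe, Scheme.Hom.mem_preimage, mem_box, ← Scheme.Hom.comp_apply,
    SymProd.permHom_base, SymProd.permHom_π]
  refine and_congr Iff.rfl ⟨fun h i => ?_, fun h i => h _⟩
  simpa using h (σ i)

theorem isAffineOpen_box {U : X.Opens} (hU : IsAffineOpen U) {V : S.Opens} (hV : IsAffineOpen V)
    (hUV : U ≤ f ⁻¹ᵁ V) : IsAffineOpen (box f d U V) := by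
  let g : U.toScheme ⟶ V.toScheme := f.resLE V U hUV
  have hg : g ≫ V.ι = U.ι ≫ f := Scheme.Hom.resLE_comp_ι _ _
  let W := box f d U V
  have hrU : ∀ i, Set.range (W.ι ≫ WidePullback.π (fun _ : Fin d => f) i).base ⊆ Set.range U.ι.base := by
    rintro i _ ⟨p, rfl⟩
    rw [Scheme.Opens.range_ι]
    exact ((mem_box f d).1 p.2).2 i
  have hrV : Set.range (W.ι ≫ WidePullback.base (fun _ : Fin d => f)).base ⊆ Set.range V.ι.base := by
    rintro _ ⟨p, rfl⟩
    rw [Scheme.Opens.range_ι]
    exact ((mem_box f d).1 p.2).1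
  let tw : W.toScheme ⟶ SymProd.fibPow g d :=
    WidePullback.lift (IsOpenImmersion.lift V.ι _ hrV) (fun i => IsOpenImmersion.lift U.ι _ (hrU i))
      (fun i => by
        rw [← cancel_mono V.ι, Category.assoc, hg, IsOpenImmersion.lift_fac, IsOpenImmersion.lift_fac_assoc,
          Category.assoc, WidePullback.π_arrow])
  let q : SymProd.fibPow g d ⟶ SymProd.fibPow f d :=
    WidePullback.lift (WidePullback.base _ ≫ V.ι) (fun i => WidePullback.π _ i ≫ U.ι)
      (fun i => by rw [Category.assoc, ← hg, WidePullback.π_arrow_assoc])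
  have hq : Set.range q.base ⊆ Set.range W.ι.base := by
    rintro _ ⟨p, rfl⟩
    rw [Scheme.Opens.range_ι, SetLike.mem_coe, mem_box]
    refine ⟨?_, fun i => ?_⟩
    · rw [← Scheme.Hom.comp_apply, WidePullback.lift_base, Scheme.Hom.comp_apply]
      exact ((WidePullback.base (fun _ : Fin d => g)).base p).2
    · rw [← Scheme.Hom.comp_apply, WidePullback.lift_π, Scheme.Hom.comp_apply]
      exact ((WidePullback.π (fun _ : Fin d => g) i).base p).2
  haveI : IsAffine U.toScheme := hU
  haveI : IsAffine V.toScheme := hV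
  haveI : IsAffine (SymProd.fibPow g d) := by
    haveI : ∀ j, IsAffine ((WidePullbackShape.wideCospan V.toScheme (fun _ : Fin d => U.toScheme) fun _ => g).obj j) := by
      rintro (_ | i)
      · exact hV
      · exact hU
    exact Scheme.isAffine_of_isLimit _ (limit.isLimit _)
  have h1 : tw ≫ IsOpenImmersion.lift W.ι q hq = 𝟙 _ := by
    rw [← cancel_mono W.ι, Category.assoc, IsOpenImmersion.lift_fac, Category.id_comp]
    apply WidePullback.hom_ext
    · intro i
      dsimp only [q, tw]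
      rw [Category.assoc, WidePullback.lift_π, ← Category.assoc, WidePullback.lift_π, IsOpenImmersion.lift_fac]
    · dsimp only [q, tw]
      rw [Category.assoc, WidePullback.lift_base, ← Category.assoc, WidePullback.lift_base, IsOpenImmersion.lift_fac]
  have h2 : IsOpenImmersion.lift W.ι q hq ≫ tw = 𝟙 _ := by
    apply WidePullback.hom_ext
    · intro i
      rw [← cancel_mono U.ι]
      dsimp only [q, tw]
      rw [Category.id_comp, Category.assoc, Category.assoc, ← Category.assoc (WidePullback.lift _ _ _),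
        WidePullback.lift_π, IsOpenImmersion.lift_fac, IsOpenImmersion.lift_fac_assoc, WidePullback.lift_π]
    · rw [← cancel_mono V.ι]
      dsimp only [q, tw]
      rw [Category.id_comp, Category.assoc, Category.assoc, ← Category.assoc (WidePullback.lift _ _ _),
        WidePullback.lift_base, IsOpenImmersion.lift_fac, IsOpenImmersion.lift_fac_assoc, WidePullback.lift_base]
  haveI : IsIso tw := ⟨IsOpenImmersion.lift W.ι q hq, h1, h2⟩
  exact IsAffine.of_isIso tw

end Groth.L16.SymProd

namespace Groth.L16.SymProd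

variable {X S : Scheme.{u}} (f : X ⟶ S) (d : ℕ)

/-- Every point of the fibre power lies in an affine box over a given affine open of the base. -/
theorem exists_box (hAF : SymProd.IsAF f) (x : ↥(SymProd.fibPow f d)) {V : S.Opens} (hV : IsAffineOpen V)
    (hxV : (WidePullback.base (fun _ : Fin d => f)).base x ∈ V) :
    ∃ U : X.Opens, IsAffineOpen U ∧ U ≤ f ⁻¹ᵁ V ∧ x ∈ box f d U V := by
  classical
  let T : Finset X := Finset.univ.image fun i => (WidePullback.π (fun _ : Fin d => f) i).base x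
  have hT : ∀ z ∈ T, f.base z = (WidePullback.base (fun _ : Fin d => f)).base x := by
    intro z hz
    obtain ⟨i, -, rfl⟩ := Finset.mem_image.1 hz
    rw [← Scheme.Hom.comp_apply, WidePullback.π_arrow]
  obtain ⟨U, hU, hTU⟩ := hAF _ T hT
  obtain ⟨U', hU', -, hle, hTU'⟩ := exists_affine_le hU (f ⁻¹ᵁ V) T hTU fun z hz => by
    show f.base z ∈ V
    rw [hT z hz]; exact hxV
  exact ⟨U', hU', hle, (mem_box f d).2 ⟨hxV, fun i => hTU' _ (Finset.mem_image_of_mem _ (Finset.mem_univ i))⟩⟩

end Groth.L16.SymProd
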